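import Cfsg.Agent.Lib.InvChar.CosetCert

/-! Coset enumeration certificate J3O22 for a presented sporadic group. -/

set_option autoImplicit false
set_option maxRecDepth 100000

namespace CfsgLib.InvChar.Coset.J3O22

/-- facts -/
noncomputable def facts : Tr := (.leaf 0xf0001800018f0000200005f0001d00005f0003000056f0005400006f0005600007f0005500054f0001e000564000300003f30004100056000043000073000560001e0000400001bf000300002ff0001a000052000310000630001f00003f0001d0001af0001c0000330001a00015f000010001800000500019100004000002000190005620005500055300054000542000530005340005200052300051000512000500005000004f0004f20004e0004e40004d0004d30004c0004c20004b0004b00004a0004a2000490004940004800048300047000472000460004600004500045200044000444000430004330004200042200041000410000060004020003f0003f40003e0003e30003d0003d20003c0003c00003b0003b20003a0003a4000390003930003800038200037000370000360003620003500035400034000343000330003320003200032000004000313000300003020002f0002f40002e0002e30002d0002d20002c0002c00002b0002b20002a0002a400029000293000280002820002700027000026000262000250002540002400024300023000232000220002200002100021200020000204000180001f20001e0001e40001d0001d30001c0001c20001b0001b0000020001a1000010001930001800018200017000173000160001620001500015400014000143000130001320001200012000011000112000100001040000f0000f30000e0000e20000d0000d00000c0000c20000b0000b40000a0000a300009000092000080000800000700007200006000064000050000530000400004200003000030000000000220000100001300000)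
/-- justifications -/
noncomputable def just : Tr := (.leaf 0x580006b0005c00002000000100000006800180001a80016000000040000001d000660006900068000050001001400000194001a00001400040030000005400067000620000c00c000001540019c0001800020030000005500062000060005d0001e0001d0005c0005a0005b0001b0001a000010005900014000130001200011000100000f0000e0000d0000c0000b0000a0000900008000070003c06c0000007400170001680016c0006c001800019400188000180010000104001080018c0015400150090e00a005000300005e000050005d0001e000610003f000640004000006000620203802400800100001740007800184000fc000800100400042000410004000006000624002000c00800154001500014c0014800144001400013c0013800134001300012c0012800124001200011c0011800114001100010c00108001040010000018160f0160010003f0003e0003d0003c0003b0003a000390003800037000360003500034000330003200031000030005a0005b0001b00060000300005e000050005d0001e03c3c03c028000bc0017c0016c0006c00020040000005a00003000040005e000300002f4001c018000000c0000bc000b8000b4000b0000ac000a8000a4000a00009c0009800094000900008c0008800084000800007c0006000158000080000c00010150f0150020001e0001d0005c0005a0005b0001b0001a00001000000000200003000040000501c3801c018000700016c0016800030030000001b0001a0000100019400180080080006400000001580015c0000c00090010040000000056000180001700016000154001c018000000100000c000080015800061000800300200003000020005640018008004000600005c0005800054000500004c0004800044000400003c0003800034000300002c0002800024000200001c0001800014000100000c00008170f017000)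
/-- relators -/
def rels : List (List ℕ) := [[0, 0], [1, 1], [2, 2], [3, 3], [4, 4], [1, 0, 1, 0, 1, 0, 1, 0], [2, 0, 2, 1], [3, 2, 3, 2, 3, 2], [3, 2, 0, 2, 3, 0], [3, 2, 1, 2, 3, 1], [0, 2, 3, 4, 0, 2, 3, 4, 0, 2, 3, 4], [0, 2, 3, 4, 1, 0, 1, 0, 4, 3, 2, 0, 1], [0, 2, 3, 4, 1, 4, 3, 2, 0, 1, 0, 1, 0, 1], [2, 3, 4, 2, 3, 4, 2, 3], [3, 2, 0, 2, 3, 4, 2, 3, 4, 3, 2, 0], [0, 2, 3, 4, 2, 0, 2, 3, 4, 2, 0, 2, 3, 4, 2, 0, 2, 3, 4, 2, 3, 2, 3, 2]]
/-- subgroup words -/
def subs : List (List ℕ) := []
/-- the letters, as letters of the whole group -/
def emb : List ℕ := [3, 4, 6, 7, 8]
/-- certificate -/
noncomputable def cert : Cert := ⟨5, 110, 86, facts, just, rels, subs⟩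

end CfsgLib.InvChar.Coset.J3O22
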